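import Groth.Agent.GrpOmega.Shear
import Groth.Agent.GrpOmega.Section
import Groth.Prelude.Def_Grpd

/-! Differentials of a groupoid scheme along the target map. -/

set_option autoImplicit false

universe u

open CategoryTheory CategoryTheory.Limits AlgebraicGeometry

namespace Groth.Agent.GrpdOmega

variable {S : Scheme.{u}} (G : Grpd.GroupoidScheme S) {T : Scheme.{u}}

/-- Composition of `T`-valued arrows. -/
noncomputable def comp (α β : T ⟶ G.R) (h : α ≫ G.s = β ≫ G.t) : T ⟶ G.R :=
  pullback.lift α β h ≫ G.c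

theorem comp_congr {α α' β β' : T ⟶ G.R} {h : α ≫ G.s = β ≫ G.t} {h' : α' ≫ G.s = β' ≫ G.t}
    (hα : α = α') (hβ : β = β') : comp G α β h = comp G α' β' h' := by subst hα; subst hβ; rfl

theorem comp_inv_left (α β : T ⟶ G.R) (h : α ≫ G.s = β ≫ G.t) :
    comp G (α ≫ G.i) (comp G α β h)
        (by rw [Category.assoc, G.i_s]; exact (G.comp_t α β h).symm) = β := by
  have h₁ : (α ≫ G.i) ≫ G.s = α ≫ G.t := by rw [Category.assoc, G.i_s]
  calc comp G (α ≫ G.i) (comp G α β h) _ = comp G (comp G (α ≫ G.i) α h₁) β ((G.comp_s _ _ h₁).trans h) :=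
        (G.assoc (α ≫ G.i) α β h₁ h).symm
    _ = comp G (β ≫ G.t ≫ G.e) β (by rw [Category.assoc, Category.assoc, G.e_s, Category.comp_id]) :=
        comp_congr G (by rw [show comp G (α ≫ G.i) α h₁ = α ≫ G.s ≫ G.e from G.i_comp α,
          ← Category.assoc, h, Category.assoc]) rfl
    _ = β := G.e_comp β

theorem comp_inv_left' (α γ : T ⟶ G.R) (h : γ ≫ G.t = α ≫ G.t) (h' : α ≫ G.s =
    comp G (α ≫ G.i) γ (by rw [Category.assoc, G.i_s, h]) ≫ G.t) :
    comp G α (comp G (α ≫ G.i) γ (by rw [Category.assoc, G.i_s, h])) h' = γ := by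
  have h₁ : α ≫ G.s = (α ≫ G.i) ≫ G.t := by rw [Category.assoc, G.i_t]
  have h₂ : (α ≫ G.i) ≫ G.s = γ ≫ G.t := by rw [Category.assoc, G.i_s, h]
  calc comp G α _ h' = comp G (comp G α (α ≫ G.i) h₁) γ ((G.comp_s _ _ h₁).trans h₂) :=
        (G.assoc α (α ≫ G.i) γ h₁ h₂).symm
    _ = comp G (γ ≫ G.t ≫ G.e) γ (by rw [Category.assoc, Category.assoc, G.e_s, Category.comp_id]) :=
        comp_congr G (by rw [show comp G α (α ≫ G.i) h₁ = α ≫ G.t ≫ G.e from G.comp_i α,
          ← Category.assoc, ← h, Category.assoc]) rfl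
    _ = γ := G.e_comp γ

/-- `(α, β) ↦ (α, αβ)` identifies the composable pairs with the pairs with the same target. -/
noncomputable def shear : pullback G.s G.t ≅ pullback G.t G.t where
  hom := pullback.lift G.c (pullback.fst G.s G.t)
    (by simpa using G.comp_t (pullback.fst G.s G.t) (pullback.snd G.s G.t) pullback.condition)
  inv := pullback.lift (pullback.snd G.t G.t)
    (comp G (pullback.snd G.t G.t ≫ G.i) (pullback.fst G.t G.t)
      (by rw [Category.assoc, G.i_s]; exact pullback.condition.symm))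
    (((Category.assoc _ _ _).trans (congrArg (_ ≫ ·) G.i_t)).symm.trans (G.comp_t _ _ _).symm)
  hom_inv_id := by
    refine pullback.hom_ext ?_ ?_
    · rw [Category.assoc, pullback.lift_fst, pullback.lift_snd, Category.id_comp]
    · rw [Category.assoc, pullback.lift_snd]
      refine Eq.trans ?_ (Category.id_comp _).symm
      refine Eq.trans ?_ (comp_inv_left G (pullback.fst G.s G.t) (pullback.snd G.s G.t) pullback.condition)
      rw [comp, comp, ← Category.assoc]
      refine congrArg (· ≫ G.c) (pullback.hom_ext ?_ ?_)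
      · simp only [Category.assoc, pullback.lift_fst]
        rw [← Category.assoc, pullback.lift_snd]
      · simp only [Category.assoc, pullback.lift_snd]
        rw [pullback.lift_fst]
        simp [comp]
  inv_hom_id := by
    refine pullback.hom_ext ?_ ?_
    · rw [Category.assoc, pullback.lift_fst, Category.id_comp]
      exact comp_inv_left' G (pullback.snd G.t G.t) (pullback.fst G.t G.t) pullback.condition _
    · rw [Category.assoc, pullback.lift_snd, pullback.lift_fst, Category.id_comp]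

theorem isPullback_comp : IsPullback G.c (pullback.fst G.s G.t) G.t G.t := by
  refine (IsPullback.of_hasPullback G.t G.t).of_iso (shear G).symm (Iso.refl _) (Iso.refl _) (Iso.refl _)
    ?_ ?_ ?_ ?_
  · show pullback.fst G.t G.t ≫ 𝟙 _ = (shear G).inv ≫ G.c
    rw [Category.comp_id, Iso.eq_inv_comp]
    exact pullback.lift_fst _ _ _
  · show pullback.snd G.t G.t ≫ 𝟙 _ = (shear G).inv ≫ pullback.fst G.s G.t
    rw [Category.comp_id, Iso.eq_inv_comp]
    exact pullback.lift_snd _ _ _
  · simp
  · simp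

/-- Left translation identifies `Ω_{R/U}` (for `t`) with the pullback along `s` of its restriction to the identity. -/
theorem nonempty_omega_iso [QuasiSeparated G.t] :
    Nonempty ((Scheme.Modules.pullback G.s).obj
      ((Scheme.Modules.pullback G.e).obj (Omega.sheaf G.t)) ≅ Omega.sheaf G.t) := by
  obtain ⟨a⟩ := GrpOmega.nonempty_omega_baseChange (isPullback_comp G)
  obtain ⟨b⟩ := GrpOmega.nonempty_omega_baseChange
    (show IsPullback (pullback.snd G.s G.t) (pullback.fst G.s G.t) G.t G.s from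
      (IsPullback.of_hasPullback G.s G.t).flip)
  have h : 𝟙 G.R ≫ G.s = (G.s ≫ G.e) ≫ G.t := by
    rw [Category.assoc, G.e_t, Category.comp_id, Category.id_comp]
  let σ : G.R ⟶ pullback G.s G.t := pullback.lift (𝟙 G.R) (G.s ≫ G.e) h
  have h₁ : σ ≫ G.c = 𝟙 G.R := by simpa using G.comp_e (𝟙 G.R)
  have h₂ : σ ≫ pullback.snd G.s G.t = G.s ≫ G.e := pullback.lift_snd _ _ _
  exact ⟨(Scheme.Modules.pullbackComp G.s G.e).app _ ≪≫
    (Scheme.Modules.pullbackCongr h₂.symm).app _ ≪≫
    ((Scheme.Modules.pullbackComp σ (pullback.snd G.s G.t)).app _).symm ≪≫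
    (Scheme.Modules.pullback σ).mapIso (b ≪≫ a.symm) ≪≫
    (Scheme.Modules.pullbackComp σ G.c).app _ ≪≫
    (Scheme.Modules.pullbackCongr h₁).app _ ≪≫
    (Scheme.Modules.pullbackId G.R).app _⟩

/-- `Ω_{R/U} ≅ s^* C_{U/R}`. -/
theorem nonempty_pullback_conormal_iso [QuasiSeparated G.t] :
    Nonempty ((Scheme.Modules.pullback G.s).obj (Omega.conormal G.e) ≅ Omega.sheaf G.t) := by
  haveI : IsImmersion (G.e ≫ G.t) := by rw [G.e_t]; infer_instance
  haveI : IsImmersion G.e := IsImmersion.of_comp G.e G.t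
  haveI : QuasiCompact (G.e ≫ G.t) := by rw [G.e_t]; infer_instance
  haveI : QuasiCompact G.e := QuasiCompact.of_comp G.e G.t
  obtain ⟨a⟩ := GrpOmega.nonempty_conormalIso G.t G.e (𝟙 G.U)
    (by rw [G.e_t, Category.comp_id]) (by rw [G.e_t, Category.comp_id])
  obtain ⟨b⟩ := nonempty_omega_iso G
  exact ⟨(Scheme.Modules.pullback G.s).mapIso a ≪≫ b⟩

end Groth.Agent.GrpdOmega
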